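import Cfsg.Agent.Lib.Bender.Invariant
import Cfsg.Agent.Lib.OddLocal.Setting

/-!
Bender: uniqueness of the maximal subgroup over a suitable subgroup of the Fitting subgroup.
-/

set_option autoImplicit false
set_option linter.style.haveILetI false

namespace Cfsg.Agent.Lib.Bender

open Subgroup
open Cfsg (fittingOf pCoreOf primesNotDvd pPrimeCore)
open scoped commutatorElement
open Cfsg.Agent.Lib

universe u

section Solvable

variable {X : Type u} [Group X] [Finite X] [Group.IsSolvable X] {p : ℕ} [hp : Fact p.Prime]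

/-- In a solvable group a `p`-subgroup centralising every `O_s`, `s ≠ p`, centralises `O_{p'}`. -/
theorem le_centralizer_pPrimeCore {A : Subgroup X} (hA : IsPGroup p A)
    (hs : ∀ s : ℕ, s.Prime → s ≠ p → A ≤ centralizer (Cfsg.pCore s X : Set X)) :
    A ≤ centralizer (pPrimeCore p X : Set X) := by
  classical
  set K := pPrimeCore p X with hK
  haveI hKs : Group.IsSolvable K := Group.isSolvable_of_isSolvable_injective K.subtype_injective
  set F := fittingOf K with hF
  haveI hFn : F.Normal := by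
    rw [hF, fittingOf]
    haveI := Fitting.fittingSubgroup_characteristic (G := K)
    exact ConjAct.normal_of_characteristic_of_normal
  have hFK : F ≤ K := fittingOf_le K
  have hKp : (Nat.card K).Coprime p := PSolvable.pPrimeCore_coprime
  -- `A` centralises the Fitting subgroup of `K`
  have hAF : ∀ a ∈ A, ∀ f ∈ F, Commute a f := by
    intro a ha f hf
    refine (mem_centralizer_iff.mp (mem_centralizer_fittingOf K (a := a) fun s hsp x hx => ?_) f hf).symm
    haveI := Fact.mk hsp
    by_cases hsp' : s = p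
    · subst hsp'
      obtain ⟨k, hk⟩ := IsPGroup.iff_orderOf.mp (isPGroup_pCoreOf K s) ⟨x, hx⟩
      rw [Subgroup.orderOf_mk] at hk
      have hx1 : x = 1 := orderOf_eq_one_iff.mp (Nat.eq_one_of_dvd_coprimes
        (hKp.pow_right k) (orderOf_dvd_natCard _ (pCoreOf_le K s hx)) hk.dvd)
      subst hx1
      exact Commute.one_right a
    · have hn : (pCoreOf s K).Normal := by
        rw [pCoreOf]
        haveI := PSolvable.pCore_characteristic (p := s) (G := K)
        exact ConjAct.normal_of_characteristic_of_normal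
      have hx' : x ∈ Cfsg.pCore s X := PSolvable.le_pCore (hN := hn) (isPGroup_pCoreOf K s) hx
      exact (mem_centralizer_iff.mp (hs s hsp hsp' ha) x hx').symm
  refine Coprime.le_centralizer_of_stabilizes (N := F) ?_
    (fun a ha => mem_centralizer_iff.mpr fun f hf => (hAF a ha f hf).eq.symm) ?_
  · rw [commutator_le]
    intro k hk a ha
    set d := k * a * k⁻¹ * a⁻¹ with hd
    have hdK : d ∈ K := by
      rw [hd, show k * a * k⁻¹ * a⁻¹ = k * (a * k⁻¹ * a⁻¹) by group]
      exact K.mul_mem hk ((inferInstance : K.Normal).conj_mem _ (K.inv_mem hk) a)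
    have hdC : (⟨d, hdK⟩ : K) ∈ centralizer (Cfsg.fittingSubgroup K : Set K) := by
      refine mem_centralizer_iff.mpr fun f hf => Subtype.ext ?_
      show (f : X) * d = d * (f : X)
      have hfF : (f : X) ∈ F := ⟨f, hf, rfl⟩
      have h1 : k⁻¹ * (f : X) * k ∈ F := by simpa using hFn.conj_mem _ hfF k⁻¹
      have c1 : Commute a (k⁻¹ * (f : X) * k) := hAF a ha _ h1
      have c2 : Commute a (f : X) := hAF a ha _ hfF
      have c3 : Commute (k * a * k⁻¹) (f : X) := by
        have := c1.map (MulAut.conj k).toMonoidHom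
        simpa [mul_assoc] using this
      rw [hd]
      exact (c3.mul_left c2.inv_left).symm.eq
    exact ⟨⟨d, hdK⟩, Fitting.centralizer_fittingSubgroup_le hdC, rfl⟩
  · obtain ⟨n, hn⟩ := hA.exists_card_eq
    rw [hn]
    exact ((hKp.coprime_dvd_left (card_dvd_of_le hFK)).pow_right n).symm

/-- Thompson's lemma: a `p'`-subgroup centralising a `p`-subgroup `U ⊇ O_p(X)`, and normalised by
its centraliser, lies in `O_{p'}(X)`. -/
theorem le_pPrimeCore_of_centralizes {U Y : Subgroup X} (hU : IsPGroup p U)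
    (hY : (Nat.card Y).Coprime p) (hYU : Y ≤ centralizer (U : Set X))
    (hCY : centralizer (U : Set X) ≤ normalizer (Y : Set X)) : Y ≤ pPrimeCore p X := by
  classical
  set K := pPrimeCore p X with hK
  set f := QuotientGroup.mk' K with hf
  have hfs : Function.Surjective f := QuotientGroup.mk'_surjective K
  set W := Cfsg.pCore p (X ⧸ K) with hW
  have hWp : IsPGroup p W := PSolvable.pCore_isPGroup
  obtain ⟨j, hj⟩ := hU.exists_card_eq
  have hKp : (Nat.card K).Coprime p := PSolvable.pPrimeCore_coprime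
  have hYK : (Nat.card (Y.map f)).Coprime p :=
    hY.coprime_dvd_left (card_map_dvd _ f)
  have hmain : Y.map f ≤ centralizer (W : Set (X ⧸ K)) := by
    refine Coprime.thompson_PxQ (hU.map f) hYK hWp ?_ (le_top.trans (normalizer_eq_top W).ge)
      (le_top.trans (normalizer_eq_top W).ge) ?_
    · rintro _ ⟨u, hu, rfl⟩
      refine mem_centralizer_iff.mpr ?_
      rintro _ ⟨y, hy, rfl⟩
      rw [← map_mul, ← map_mul, mem_centralizer_iff.mp (hYU hy) u hu]
    rintro w ⟨hwW, hwc⟩
    obtain ⟨x, rfl⟩ := hfs w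
    obtain ⟨c, hc, hcK⟩ := Coprime.exists_centralizer_mem_leftCoset (A := U) (N := K) (k := x)
      (fun a _ => by rw [normalizer_eq_top]; exact mem_top a)
      (by rw [hj]; exact (hKp.symm).pow_left j) (Or.inl inferInstance) (fun a ha => by
        refine (QuotientGroup.eq_one_iff _).mp ?_
        show f (x⁻¹ * (a * x * a⁻¹)) = 1
        rw [map_mul, map_mul, map_mul, map_inv, map_inv,
          mem_centralizer_iff.mp hwc (f a) (mem_map_of_mem f ha), mul_inv_cancel_right,
          inv_mul_cancel])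
    have hfc : f c = f x := by
      have : f (x⁻¹ * c) = 1 := (QuotientGroup.eq_one_iff _).mpr hcK
      rw [map_mul, map_inv, inv_mul_eq_one] at this
      exact this.symm
    refine mem_centralizer_iff.mpr ?_
    rintro _ ⟨y, hy, rfl⟩
    have hint : W ⊓ Y.map f = ⊥ := PSolvable.inf_eq_bot_of_isPGroup_of_coprime hWp hYK
    refine (commute_of_mem_inter hint hwW (mem_map_of_mem f hy)
      (by rw [normalizer_eq_top]; exact mem_top _) ?_).eq.symm
    rw [← hfc]
    exact le_normalizer_map f (mem_map_of_mem f (hCY hc))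
  have hFW : Cfsg.fittingSubgroup (X ⧸ K) ≤ W := by
    rw [Fitting.fittingSubgroup_eq_iSup_pCore]
    refine iSup_le fun s => ?_
    haveI := Fact.mk s.2
    by_cases hsp : (s : ℕ) = p
    · rw [hsp]
    · refine le_trans (Fitting.pCore_le_pPrimeCore_of_ne hsp) ?_
      rw [PSolvable.pPrimeCore_quotient_eq_bot]
      exact bot_le
  intro y hy
  refine (QuotientGroup.eq_one_iff y).mp ?_
  have h1 : f y ∈ centralizer (Cfsg.fittingSubgroup (X ⧸ K) : Set (X ⧸ K)) :=
    centralizer_le (SetLike.coe_subset_coe.mpr hFW) (hmain (mem_map_of_mem f hy))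
  have h2 : f y ∈ W ⊓ Y.map f :=
    ⟨hFW (Fitting.centralizer_fittingSubgroup_le h1), mem_map_of_mem f hy⟩
  rwa [PSolvable.inf_eq_bot_of_isPGroup_of_coprime hWp hYK, mem_bot] at h2

end Solvable

variable {G : Type u} [Group G] [Finite G]

/-- `O_{p'}` of a subgroup, in the ambient group. -/
def coreOf (p : ℕ) (X : Subgroup G) : Subgroup G := (pPrimeCore p X).map X.subtype

theorem le_centralizer_coreOf {p : ℕ} [Fact p.Prime] {X A : Subgroup G} (hX : Group.IsSolvable X)
    (hAX : A ≤ X) (hA : IsPGroup p A)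
    (hs : ∀ s : ℕ, s.Prime → s ≠ p → A ≤ centralizer (pCoreOf s X : Set G)) :
    A ≤ centralizer (coreOf p X : Set G) := by
  haveI := hX
  have h := le_centralizer_pPrimeCore (X := X) (p := p) (A := A.subgroupOf X) hA.comap_subtype
    fun s hs' hne a ha => mem_centralizer_iff.mpr fun x hx => Subtype.ext
      (mem_centralizer_iff.mp (hs s hs' hne (ha : (a : G) ∈ A)) (x : G) ⟨x, hx, rfl⟩)
  intro a ha
  refine mem_centralizer_iff.mpr ?_
  rintro _ ⟨x, hx, rfl⟩
  exact congrArg Subtype.val
    (mem_centralizer_iff.mp (h (show (⟨a, hAX ha⟩ : X) ∈ A.subgroupOf X from ha)) x hx)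

theorem le_coreOf {p : ℕ} [Fact p.Prime] {X U Y : Subgroup G} (hX : Group.IsSolvable X)
    (hUX : U ≤ X) (hU : IsPGroup p U) (hYX : Y ≤ X) (hY : (Nat.card Y).Coprime p)
    (hYU : Y ≤ centralizer (U : Set G))
    (hCY : X ⊓ centralizer (U : Set G) ≤ normalizer (Y : Set G)) : Y ≤ coreOf p X := by
  haveI := hX
  have h := le_pPrimeCore_of_centralizes (X := X) (p := p) (U := U.subgroupOf X)
    (Y := Y.subgroupOf X) hU.comap_subtype
    (by rwa [Nat.card_congr (subgroupOfEquivOfLe hYX).toEquiv])
    (fun y hy => mem_centralizer_iff.mpr fun u hu => Subtype.ext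
      (mem_centralizer_iff.mp (hYU (hy : (y : G) ∈ Y)) (u : G) hu))
    (fun c hc => mem_normalizer_iff.mpr fun y => mem_normalizer_iff.mp (hCY ⟨c.2,
      mem_centralizer_iff.mpr fun u hu => congrArg Subtype.val
        (mem_centralizer_iff.mp hc (⟨u, hUX hu⟩ : X) hu)⟩) (y : G))
  intro y hy
  exact ⟨⟨y, hYX hy⟩, h hy, rfl⟩

omit [Finite G] in
theorem le_normalizer_coreOf [Finite G] (p : ℕ) (X : Subgroup G) :
    X ≤ normalizer (coreOf p X : Set G) := by
  haveI := PSolvable.pPrimeCore_characteristic (p := p) (G := X)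
  exact le_normalizer.trans (Coprime.normalizer_le_normalizer_map_of_characteristic _)

/-- Bender's uniqueness theorem. -/
theorem coatom_unique (hG : Cfsg.IsMinSimpleOddOrder G) {H : Subgroup G} (hH : IsCoatom H)
    (hF2 : 2 ≤ (Nat.card (fittingOf H)).primeFactors.card) {M : Subgroup G}
    (hM : M ≤ fittingOf H) (hZM : fittingOf H ⊓ centralizer (fittingOf H : Set G) ≤ M)
    (hinv : ∀ Y ∈ Cfsg.invSubgroups ⊤ M (primesNotDvd (Nat.card (fittingOf H))), Y = ⊥)
    {L : Subgroup G} (hL : IsCoatom L) (hML : M ≤ L) : L = H := by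
  classical
  set n := Nat.card (fittingOf H) with hn
  have hHs := OddLocal.minSimple_solvable hG hH.1
  have hLs := OddLocal.minSimple_solvable hG hL.1
  have hZle : ∀ s : ℕ, s.Prime → zc H s ≤ M := fun s hs => by
    haveI := Fact.mk hs
    exact (le_inf (zc_le_fittingOf H s) (zc_le_centralizer H s)).trans hZM
  have hother : ∀ p : ℕ, ∃ r : ℕ, r.Prime ∧ r ∣ n ∧ r ≠ p := fun p => by
    obtain ⟨r, hr, hrp⟩ := Finset.exists_mem_ne hF2 p
    obtain ⟨hr, hrn, -⟩ := Nat.mem_primeFactors.mp hr
    exact ⟨r, hr, hrn, hrp⟩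
  have hC : ∀ s : ℕ, s.Prime → s ∣ n → centralizer (zc H s : Set G) ≤ H := fun s hs hd => by
    haveI := Fact.mk hs
    exact (centralizer_le_normalizer _).trans (OddLocal.minSimple_normalizer_eq hG hH
      (zc_ne_bot H hd) (inf_le_left.trans (pCoreOf_le H s)) (le_normalizer_zc H s)).le
  have hLn : ∀ s : ℕ, L ≤ normalizer (pCoreOf s L : Set G) := fun s =>
    le_normalizer.trans (normalizer_le_normalizer_pCoreOf L s)
  -- only primes of `π(F)`
  have hbot : ∀ s : ℕ, s.Prime → ¬ s ∣ n → pCoreOf s L = ⊥ := fun s hs hsn =>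
    hinv _ ⟨le_top, fun p hp hd => ⟨hp, by
      haveI := Fact.mk hs
      obtain ⟨k, hk⟩ := (isPGroup_pCoreOf L s).exists_card_eq
      rw [hk] at hd
      rwa [(Nat.prime_dvd_prime_iff_eq hp hs).mp (hp.dvd_of_dvd_pow hd)]⟩, hML.trans (hLn s)⟩
  -- `Z_r` centralises `O_p(L)`
  have hZc : ∀ p r : ℕ, p.Prime → r.Prime → p ∣ n → r ∣ n → r ≠ p →
      pCoreOf p L ≤ centralizer (zc H r : Set G) := by
    intro p r hp hr hpn hrn hrp
    haveI := Fact.mk hp
    haveI := Fact.mk hr
    have hK : Nat.card (⊥ : Subgroup G) = 1 := card_bot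
    have h := commutator_mem_of_fixed (K := (⊥ : Subgroup G)) (L := pCoreOf p L) (Zp := zc H p)
      (Zr := zc H r) hrp bot_le ((isPGroup_pCoreOf L p).map _) (isPGroup_zc H p) (isPGroup_zc H r)
      (by rw [hK]; exact hp.not_dvd_one) (by rw [hK]; exact hr.not_dvd_one)
      ((zc_le_centralizer H p).trans (centralizer_le (SetLike.coe_subset_coe.mpr (zc_le_fittingOf H r))))
      ((hZle p hp).trans (hML.trans (hLn p))) ((hZle r hr).trans (hML.trans (hLn p)))
      (fun c _ hc y hy => (zc H r).mul_mem ((mem_normalizer_iff.mp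
        (le_normalizer_zc H r (hC p hp hpn hc)) y).mp hy) ((zc H r).inv_mem hy))
    exact commutator_eq_bot_iff_le_centralizer.mp (le_bot_iff.mp h)
  have hLH : ∀ p : ℕ, p.Prime → pCoreOf p L ≤ H := by
    intro p hp
    by_cases hpn : p ∣ n
    · obtain ⟨r, hr, hrn, hrp⟩ := hother p
      exact (hZc p r hp hr hpn hrn hrp).trans (hC r hr hrn)
    · rw [hbot p hp hpn]; exact bot_le
  -- every prime of `F` occurs in `L`
  have hne : ∀ r : ℕ, r.Prime → r ∣ n → pCoreOf r L ≠ ⊥ := by
    intro r hr hrn e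
    haveI := Fact.mk hr
    refine zc_ne_bot H hrn (eq_bot_iff.mpr fun z hz => ?_)
    have hzL : z ∈ L := hML (hZle r hr hz)
    have hzC : z ∈ centralizer (fittingOf L : Set G) := mem_centralizer_fittingOf L fun s hs x hx => by
      by_cases hsn : s ∣ n
      · by_cases hsr : s = r
        · subst hsr
          rw [e, mem_bot] at hx
          subst hx
          exact Commute.one_right z
        · exact mem_centralizer_iff.mp (hZc s r hs hr hsn hrn (Ne.symm hsr) hx) z hz
      · rw [hbot s hs hsn, mem_bot] at hx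
        subst hx
        exact Commute.one_right z
    haveI := hLs
    have hzF : z ∈ fittingOf L := ⟨⟨z, hzL⟩, Fitting.centralizer_fittingSubgroup_le
      (mem_centralizer_iff.mpr fun f hf => Subtype.ext
        (mem_centralizer_iff.mp hzC (f : G) ⟨f, hf, rfl⟩)), rfl⟩
    obtain ⟨k, hk⟩ := IsPGroup.iff_orderOf.mp (isPGroup_zc H r) ⟨z, hz⟩
    rw [Subgroup.orderOf_mk] at hk
    exact e ▸ mem_pCoreOf_of_pow L hzF hk
  -- `O_p(L)` centralises `O_r(H)`
  have h5 : ∀ p r : ℕ, p.Prime → r.Prime → p ∣ n → r ∣ n → r ≠ p →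
      pCoreOf p L ≤ centralizer (pCoreOf r H : Set G) := by
    intro p r hp hr hpn hrn hrp
    haveI := Fact.mk hp
    haveI := Fact.mk hr
    have hdisj : ∀ {A B : Subgroup G}, IsPGroup r A → IsPGroup p B → A ⊓ B = ⊥ :=
      fun {A B} hA hB => (IsPGroup.disjoint_of_ne r p hrp _ _ hA hB).eq_bot
    obtain ⟨k, hk⟩ := (isPGroup_pCoreOf L p).exists_card_eq
    refine Coprime.thompson_PxQ (P := pCoreOf r L) (isPGroup_pCoreOf L r)
      (by rw [hk]; exact ((Nat.coprime_primes hp hr).mpr (Ne.symm hrp)).pow_left k)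
      (isPGroup_pCoreOf H r) ?_
      ((hLH r hr).trans (le_normalizer.trans (normalizer_le_normalizer_pCoreOf H r)))
      ((hLH p hp).trans (le_normalizer.trans (normalizer_le_normalizer_pCoreOf H r))) ?_
    · intro a ha
      refine mem_centralizer_iff.mpr fun b hb => ?_
      exact (commute_of_mem_inter (hdisj (isPGroup_pCoreOf L r) (isPGroup_pCoreOf L p)) ha hb
        (hLn r (pCoreOf_le L p hb)) (hLn p (pCoreOf_le L r ha))).eq.symm
    rintro x ⟨hx, hxc⟩
    have hxL : x ∈ L := (OddLocal.minSimple_normalizer_eq hG hL (hne r hr hrn) (pCoreOf_le L r)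
      (hLn r)).le (centralizer_le_normalizer _ hxc)
    refine mem_centralizer_iff.mpr fun b hb => ?_
    exact (commute_of_mem_inter (hdisj (isPGroup_pCoreOf H r) (isPGroup_pCoreOf L p)) hx hb
      (normalizer_le_normalizer_pCoreOf H r (le_normalizer (hLH p hp hb))) (hLn p hxL)).eq.symm
  have hFL : ∀ p : ℕ, p.Prime → pCoreOf p H ≤ L := by
    intro p hp
    haveI := Fact.mk hp
    by_cases hpn : p ∣ n
    · obtain ⟨r, hr, hrn, hrp⟩ := hother p
      exact ((le_centralizer_iff.mp (h5 r p hr hp hrn hpn (Ne.symm hrp))).trans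
        (centralizer_le_normalizer _)).trans
        (OddLocal.minSimple_normalizer_eq hG hL (hne r hr hrn) (pCoreOf_le L r) (hLn r)).le
    · intro x hx
      obtain ⟨e, he⟩ := IsPGroup.iff_orderOf.mp (isPGroup_pCoreOf H p) ⟨x, hx⟩
      rw [Subgroup.orderOf_mk] at he
      have h1 : orderOf x = 1 := Nat.eq_one_of_dvd_coprimes
        ((hp.coprime_iff_not_dvd.mpr hpn).pow_left e) he.dvd
        (orderOf_dvd_natCard _ (pCoreOf_le_fittingOf H p hx))
      rw [orderOf_eq_one_iff.mp h1]
      exact L.one_mem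
  -- compare the two cores
  obtain ⟨p, hp, hpn, -⟩ := hother 0
  obtain ⟨r, hr, hrn, hrp⟩ := hother p
  haveI := Fact.mk hp
  haveI := Fact.mk hr
  set U := pCoreOf p H ⊔ pCoreOf p L with hU
  have hUp : IsPGroup p U := (isPGroup_pCoreOf H p).to_sup_of_normal_left' (isPGroup_pCoreOf L p)
    ((hLH p hp).trans (le_normalizer.trans (normalizer_le_normalizer_pCoreOf H p)))
  have hUH : U ≤ H := sup_le (pCoreOf_le H p) (hLH p hp)
  have hUL : U ≤ L := sup_le (hFL p hp) (pCoreOf_le L p)
  have hUcL : U ≤ centralizer (coreOf p L : Set G) := by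
    refine le_centralizer_coreOf hLs hUL hUp fun s hs hsp => ?_
    haveI := Fact.mk hs
    by_cases hsn : s ∣ n
    · refine sup_le (le_centralizer_iff.mp (h5 s p hs hp hsn hpn (Ne.symm hsp))) ?_
      exact fun b hb => mem_centralizer_iff.mpr fun a ha =>
        (commute_of_mem_inter (IsPGroup.disjoint_of_ne s p hsp _ _ (isPGroup_pCoreOf L s) (isPGroup_pCoreOf L p)).eq_bot
          ha hb (hLn s (pCoreOf_le L p hb)) (hLn p (pCoreOf_le L s ha))).eq
    · rw [hbot s hs hsn]
      exact fun b _ => mem_centralizer_iff.mpr fun a ha => by rw [mem_bot.mp ha, one_mul, mul_one]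
  have hUcH : U ≤ centralizer (coreOf p H : Set G) := by
    refine le_centralizer_coreOf hHs hUH hUp fun s hs hsp => ?_
    haveI := Fact.mk hs
    by_cases hsn : s ∣ n
    · refine sup_le ?_ (h5 p s hp hs hpn hsn hsp)
      exact fun b hb => mem_centralizer_iff.mpr fun a ha =>
        (commute_of_mem_inter (IsPGroup.disjoint_of_ne s p hsp _ _ (isPGroup_pCoreOf H s) (isPGroup_pCoreOf H p)).eq_bot
          ha hb (normalizer_le_normalizer_pCoreOf H s (le_normalizer (pCoreOf_le H p hb)))
          (normalizer_le_normalizer_pCoreOf H p (le_normalizer (pCoreOf_le H s ha)))).eq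
    · intro b _
      refine mem_centralizer_iff.mpr fun a ha => ?_
      obtain ⟨e, he⟩ := IsPGroup.iff_orderOf.mp (isPGroup_pCoreOf H s) ⟨a, ha⟩
      rw [Subgroup.orderOf_mk] at he
      have h1 : orderOf a = 1 := Nat.eq_one_of_dvd_coprimes
        ((hs.coprime_iff_not_dvd.mpr hsn).pow_left e) he.dvd
        (orderOf_dvd_natCard _ (pCoreOf_le_fittingOf H s ha))
      rw [orderOf_eq_one_iff.mp h1, one_mul, mul_one]
  have hpar : ∀ X : Subgroup G, (Nat.card (coreOf p X)).Coprime p := fun X => by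
    rw [coreOf, card_map_of_injective X.subtype_injective]
    exact PSolvable.pPrimeCore_coprime
  -- `C(U)` lies in both
  have hCH : centralizer (U : Set G) ≤ H :=
    (centralizer_le (SetLike.coe_subset_coe.mpr (le_sup_left : pCoreOf p H ≤ U))).trans
      ((centralizer_le (SetLike.coe_subset_coe.mpr inf_le_left)).trans (hC p hp hpn))
  have hCL : centralizer (U : Set G) ≤ L :=
    (centralizer_le (SetLike.coe_subset_coe.mpr (le_sup_right : pCoreOf p L ≤ U))).trans
      ((centralizer_le_normalizer _).trans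
        (OddLocal.minSimple_normalizer_eq hG hL (hne p hp hpn) (pCoreOf_le L p) (hLn p)).le)
  have e1 : coreOf p L ≤ coreOf p H := le_coreOf hHs hUH hUp
    ((le_centralizer_iff.mp hUcL).trans hCH) (hpar L) (le_centralizer_iff.mp hUcL)
    (inf_le_right.trans (hCL.trans (le_normalizer_coreOf p L)))
  have e2 : coreOf p H ≤ coreOf p L := le_coreOf hLs hUL hUp
    ((le_centralizer_iff.mp hUcH).trans hCL) (hpar H) (le_centralizer_iff.mp hUcH)
    (inf_le_right.trans (hCH.trans (le_normalizer_coreOf p H)))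
  have hKne : coreOf p L ≠ ⊥ := fun e => hne r hr hrn (le_bot_iff.mp (e ▸ map_mono
    (Fitting.pCore_le_pPrimeCore_of_ne hrp)))
  have n1 := OddLocal.minSimple_normalizer_eq hG hL hKne (map_subtype_le _) (le_normalizer_coreOf p L)
  rw [le_antisymm e1 e2] at n1 hKne
  have n2 := OddLocal.minSimple_normalizer_eq hG hH hKne (map_subtype_le _) (le_normalizer_coreOf p H)
  exact n1.symm.trans n2

end Cfsg.Agent.Lib.Bender
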