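import Mathlib
import Cfsg.Prelude.Def_Amalgam
import Cfsg.Prelude.Def_OddOrderLocal
import Cfsg.Agent.Lib.Core.Fitting
import Cfsg.Agent.Lib.Core.Nilpotent
import Cfsg.Agent.Lib.PSolvable.Core
import Cfsg.Agent.Lib.Coprime.Basic
import Cfsg.Agent.Lib.Coprime.Quotient
import Cfsg.Agent.Lib.CNTheorem.Basic
import Cfsg.Agent.Lib.OddLocal.PiCore

/-!
Bender's method: the central `p`-parts `Z_p` of the Fitting subgroup of a subgroup `H`, and the
lemma that `Z_r` centralises every `Z_p × Z_r`-invariant `p`-section of a solvable group.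
-/

set_option autoImplicit false
set_option linter.style.haveILetI false

namespace Cfsg.Agent.Lib.Bender

open Subgroup
open Cfsg (fittingOf pCoreOf)
open scoped commutatorElement
open Cfsg.Agent.Lib

universe u

variable {G : Type u} [Group G] [Finite G] (H : Subgroup G)

omit [Finite G] in
theorem fittingOf_le : fittingOf H ≤ H := map_subtype_le _

omit [Finite G] in
theorem pCoreOf_le (p : ℕ) : pCoreOf p H ≤ H := map_subtype_le _

theorem pCoreOf_le_fittingOf (p : ℕ) [Fact p.Prime] : pCoreOf p H ≤ fittingOf H :=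
  map_mono (Fitting.pCore_le_fittingSubgroup p)

theorem isPGroup_pCoreOf (p : ℕ) : IsPGroup p (pCoreOf p H) :=
  PSolvable.pCore_isPGroup.map _

theorem isNilpotent_fittingOf : Group.IsNilpotent (fittingOf H) :=
  CNTheorem.isNilpotent_map H.subtype Fitting.isNilpotent_fittingSubgroup

theorem normalizer_le_normalizer_fittingOf :
    normalizer (H : Set G) ≤ normalizer (fittingOf H : Set G) := by
  haveI := Fitting.fittingSubgroup_characteristic (G := H)
  exact Coprime.normalizer_le_normalizer_map_of_characteristic _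

omit [Finite G] in
theorem normalizer_le_normalizer_pCoreOf (p : ℕ) :
    normalizer (H : Set G) ≤ normalizer (pCoreOf p H : Set G) := by
  haveI := PSolvable.pCore_characteristic (p := p) (G := H)
  exact Coprime.normalizer_le_normalizer_map_of_characteristic _

theorem pCoreOf_ne_bot {p : ℕ} [Fact p.Prime] (hd : p ∣ Nat.card (fittingOf H)) :
    pCoreOf p H ≠ ⊥ := by
  intro e
  rw [pCoreOf, map_eq_bot_iff_of_injective _ H.subtype_injective] at e
  refine Fitting.not_dvd_relIndex_pCore_fitting (G := H) p ?_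
  rw [e, relIndex_bot_left, ← card_map_of_injective H.subtype_injective]
  exact hd

/-- The `p`-elements of `F(H)` lie in `O_p(H)`. -/
theorem mem_pCoreOf_of_pow {p : ℕ} [Fact p.Prime] {x : G} (hx : x ∈ fittingOf H) {k : ℕ}
    (hk : orderOf x = p ^ k) : x ∈ pCoreOf p H := by
  obtain ⟨y, hy, rfl⟩ := hx
  refine ⟨y, ?_, rfl⟩
  haveI : ((Cfsg.pCore p H).subgroupOf (Cfsg.fittingSubgroup H)).Normal := inferInstance
  rw [Subgroup.subtype_apply, Subgroup.orderOf_coe] at hk
  have h1 : orderOf (QuotientGroup.mk' ((Cfsg.pCore p H).subgroupOf (Cfsg.fittingSubgroup H)) ⟨y, hy⟩) = 1 := by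
    refine Nat.eq_one_of_dvd_coprimes
      (((Fact.out : p.Prime).coprime_iff_not_dvd.mpr
        (Fitting.not_dvd_relIndex_pCore_fitting (G := H) p)).pow_left k) ?_
      (orderOf_dvd_natCard _)
    rw [← hk]
    refine (orderOf_map_dvd _ _).trans ?_
    rw [Subgroup.orderOf_mk]
  exact (QuotientGroup.eq_one_iff (⟨y, hy⟩ : Cfsg.fittingSubgroup H)).mp (orderOf_eq_one_iff.mp h1)

/-- What centralises every `O_p(H)` centralises `F(H)`. -/
theorem mem_centralizer_fittingOf {a : G}
    (h : ∀ p : ℕ, p.Prime → ∀ x ∈ pCoreOf p H, Commute a x) :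
    a ∈ centralizer (fittingOf H : Set G) := by
  have htop : (centralizer ({a} : Set G)).subgroupOf (fittingOf H) = ⊤ := by
    refine Fitting.eq_top_of_sylow_le fun p hp => ?_
    haveI := Fact.mk hp
    obtain ⟨P⟩ := (inferInstance : Nonempty (Sylow p (fittingOf H)))
    refine ⟨P, fun x hx => ?_⟩
    obtain ⟨k, hk⟩ := IsPGroup.iff_orderOf.mp P.2 ⟨x, hx⟩
    rw [Subgroup.orderOf_mk, ← Subgroup.orderOf_coe] at hk
    exact CNTheorem.mem_centralizer_iff_commute.mpr
      (h p hp _ (mem_pCoreOf_of_pow H x.2 hk)).symm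
  exact mem_centralizer_iff.mpr fun x hx =>
    CNTheorem.mem_centralizer_iff_commute.mp (subgroupOf_eq_top.mp htop hx)

/-- `Z_p`: the central elements of `F(H)` in `O_p(H)`. -/
def zc (p : ℕ) : Subgroup G := pCoreOf p H ⊓ centralizer (fittingOf H : Set G)

theorem isPGroup_zc (p : ℕ) : IsPGroup p (zc H p) :=
  (isPGroup_pCoreOf H p).to_le inf_le_left

theorem zc_le_fittingOf (p : ℕ) [Fact p.Prime] : zc H p ≤ fittingOf H :=
  inf_le_left.trans (pCoreOf_le_fittingOf H p)

omit [Finite G] in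
theorem zc_le_centralizer (p : ℕ) : zc H p ≤ centralizer (fittingOf H : Set G) := inf_le_right

theorem le_normalizer_zc (p : ℕ) : H ≤ normalizer (zc H p : Set G) :=
  Coprime.le_normalizer_inf_centralizer
    (le_normalizer.trans (normalizer_le_normalizer_pCoreOf H p))
    (le_normalizer.trans (normalizer_le_normalizer_fittingOf H))

theorem zc_ne_bot {p : ℕ} [Fact p.Prime] (hd : p ∣ Nat.card (fittingOf H)) : zc H p ≠ ⊥ := by
  haveI := isNilpotent_fittingOf H
  have hn : ((pCoreOf p H).subgroupOf (fittingOf H)).Normal :=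
    (normal_subgroupOf_iff_le_normalizer (pCoreOf_le_fittingOf H p)).mpr
      ((fittingOf_le H).trans (le_normalizer.trans (normalizer_le_normalizer_pCoreOf H p)))
  have hne : (pCoreOf p H).subgroupOf (fittingOf H) ≠ ⊥ := by
    intro e
    refine pCoreOf_ne_bot H hd ?_
    rw [← map_subgroupOf_eq_of_le (pCoreOf_le_fittingOf H p), e, Subgroup.map_bot]
  obtain ⟨c, hc, hc1⟩ := (bot_or_exists_ne_one _).resolve_left
    (Nilp.inf_center_ne_bot_of_normal (hN := hn) hne)
  intro e
  have h1 : (c : G) ∈ zc H p := ⟨hc.1, mem_centralizer_iff.mpr fun x hx =>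
    congrArg Subtype.val (mem_center_iff.mp hc.2 ⟨x, hx⟩)⟩
  rw [e, mem_bot] at h1
  exact hc1 (Subtype.ext h1)

omit [Finite G] in
/-- Two coprime normal-in-`H` subgroups: commutators lie in both. -/
theorem commute_of_mem_inter {A B : Subgroup G} (h : A ⊓ B = ⊥) {a b : G} (ha : a ∈ A) (hb : b ∈ B)
    (hbA : b ∈ normalizer (A : Set G)) (haB : a ∈ normalizer (B : Set G)) : Commute a b := by
  have h1 : a * b * a⁻¹ * b⁻¹ ∈ A ⊓ B := by
    refine ⟨?_, B.mul_mem ((mem_normalizer_iff.mp haB b).mp hb) (B.inv_mem hb)⟩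
    rw [show a * b * a⁻¹ * b⁻¹ = a * (b * a⁻¹ * b⁻¹) by group]
    exact A.mul_mem ha ((mem_normalizer_iff.mp hbA a⁻¹).mp (A.inv_mem ha))
  rw [h, mem_bot, mul_inv_eq_one, mul_inv_eq_iff_eq_mul] at h1
  exact h1

section Fixed

/-- `Zr` acts trivially on the `p`-section `L / K`, if it does on the fixed points of `Zp`. -/
theorem commutator_mem_of_fixed {p r : ℕ} [hp : Fact p.Prime] [Fact r.Prime] (hrp : r ≠ p)
    {K L Zp Zr : Subgroup G} [K.Normal] (hKL : K ≤ L) (hLp : IsPGroup p (L.map (QuotientGroup.mk' K)))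
    (hZp : IsPGroup p Zp) (hZr : IsPGroup r Zr) (hKp : ¬ p ∣ Nat.card K) (hKr : ¬ r ∣ Nat.card K)
    (hcomm : Zp ≤ centralizer (Zr : Set G))
    (hpL : Zp ≤ normalizer (L : Set G)) (hrL : Zr ≤ normalizer (L : Set G))
    (hfix : ∀ c ∈ L, c ∈ centralizer (Zp : Set G) → ∀ y ∈ Zr, c * y * c⁻¹ * y⁻¹ ∈ Zr) :
    ⁅L, Zr⁆ ≤ K := by
  set q := QuotientGroup.mk' K with hq
  obtain ⟨j, hj⟩ := hZr.exists_card_eq
  obtain ⟨i, hi⟩ := hZp.exists_card_eq
  have hq' : ∀ {A B : Subgroup G}, A ≤ normalizer (B : Set G) →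
      A.map q ≤ normalizer ((B.map q : Subgroup (G ⧸ K)) : Set (G ⧸ K)) := fun {A B} h =>
    (map_mono h).trans (le_normalizer_map q)
  have hmain : Zr.map q ≤ centralizer ((L.map q : Subgroup (G ⧸ K)) : Set (G ⧸ K)) := by
    refine Coprime.thompson_PxQ (hZp.map q) ?_ hLp ?_ (hq' hpL) (hq' hrL) ?_
    · refine Nat.Coprime.coprime_dvd_left (card_map_dvd _ q) ?_
      rw [hj]
      exact ((Nat.coprime_primes Fact.out hp.out).mpr hrp).pow_left j
    · rintro _ ⟨z, hz, rfl⟩
      refine mem_centralizer_iff.mpr ?_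
      rintro _ ⟨y, hy, rfl⟩
      rw [← map_mul, ← map_mul, mem_centralizer_iff.mp (hcomm hz) y hy]
    rintro _ ⟨⟨w, hw, rfl⟩, hwc⟩
    obtain ⟨c, hc, hcK⟩ := Coprime.exists_centralizer_mem_leftCoset (A := Zp) (N := K) (k := w)
      (fun a _ => by rw [normalizer_eq_top]; exact mem_top a)
      (by rw [hi]; exact (hp.out.coprime_iff_not_dvd.mpr hKp).pow_left i)
      (Or.inl (by haveI := hZp.isNilpotent; infer_instance)) (fun a ha => by
        refine (QuotientGroup.eq_one_iff _).mp ?_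
        show q (w⁻¹ * (a * w * a⁻¹)) = 1
        rw [map_mul, map_mul, map_mul, map_inv, map_inv,
          mem_centralizer_iff.mp hwc (q a) (mem_map_of_mem q ha), mul_inv_cancel_right,
          inv_mul_cancel])
    have hcL : c ∈ L := by
      rw [show c = w * (w⁻¹ * c) by group]
      exact L.mul_mem hw (hKL hcK)
    have hqc : q c = q w := by
      have : q (w⁻¹ * c) = 1 := (QuotientGroup.eq_one_iff _).mpr hcK
      rw [map_mul, map_inv, inv_mul_eq_one] at this
      exact this.symm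
    refine mem_centralizer_iff.mpr ?_
    rintro _ ⟨y, hy, rfl⟩
    set d := c * y * c⁻¹ * y⁻¹ with hd
    have hdL : d ∈ L := by
      rw [hd, show c * y * c⁻¹ * y⁻¹ = c * (y * c⁻¹ * y⁻¹) by group]
      exact L.mul_mem hcL ((mem_normalizer_iff.mp (hrL hy) c⁻¹).mp (L.inv_mem hcL))
    obtain ⟨t, ht⟩ := IsPGroup.iff_orderOf.mp hZr ⟨d, hfix c hcL hc y hy⟩
    rw [Subgroup.orderOf_mk] at ht
    obtain ⟨k, hk⟩ := hLp.exists_card_eq
    have hd1 : d = 1 := by
      refine orderOf_eq_one_iff.mp (Nat.eq_one_of_dvd_coprimes (k := orderOf d)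
        (a := r ^ t) (b := Nat.card L) ?_ ht.dvd (orderOf_dvd_natCard _ hdL))
      refine Nat.Coprime.pow_left t ((Fact.out : r.Prime).coprime_iff_not_dvd.mpr fun hdvd => ?_)
      have h1 := SZ.card_map_mul_card_inf_ker q L
      rw [QuotientGroup.ker_mk', inf_eq_right.mpr hKL, hk] at h1
      rw [← h1] at hdvd
      rcases (Fact.out : r.Prime).dvd_mul.mp hdvd with h | h
      · exact hrp ((Nat.prime_dvd_prime_iff_eq Fact.out hp.out).mp
          ((Fact.out : r.Prime).dvd_of_dvd_pow h))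
      · exact hKr h
    rw [hd, mul_inv_eq_one, mul_inv_eq_iff_eq_mul] at hd1
    rw [← hqc, ← map_mul, ← map_mul, hd1]
  rw [commutator_le]
  intro x hx y hy
  refine (QuotientGroup.eq_one_iff _).mp ?_
  show q ⁅x, y⁆ = 1
  rw [map_commutatorElement, commutatorElement_eq_one_iff_mul_comm]
  exact mem_centralizer_iff.mp (hmain (mem_map_of_mem q hy)) (q x) (mem_map_of_mem q hx)

end Fixed

end Cfsg.Agent.Lib.Bender
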