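import Cfsg.Agent.Lib.Bender.Basic
import Cfsg.Agent.Lib.Coprime.Sylow
import Cfsg.Agent.Lib.OddLocal.Invariant

/-!
Bender: invariant subgroups of order prime to `|F(H)|` in a solvable group lie in its core.
-/

set_option autoImplicit false
set_option linter.style.haveILetI false

namespace Cfsg.Agent.Lib.Bender

open Subgroup
open Cfsg (fittingOf pCoreOf piCoreOf primesNotDvd)
open scoped commutatorElement
open Cfsg.Agent.Lib

universe u

variable {G : Type u} [Group G] [Finite G]

theorem coprime_of_primesNotDvd {Y : Subgroup G} {n : ℕ}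
    (h : ∀ p : ℕ, p.Prime → p ∣ Nat.card Y → p ∈ primesNotDvd n) : (Nat.card Y).Coprime n :=
  Nat.coprime_of_dvd fun p hp hd hdn => (h p hp hd).2 hdn

/-- The abstract core lemma. -/
theorem le_core_of_fixed {n q : ℕ} [hq : Fact q.Prime] (hqn : ¬ q ∣ n)
    (R K Q : Subgroup G) [R.Normal] [hKn : K.Normal] (hR : Group.IsSolvable R) (hKR : K ≤ R)
    (hK : (Nat.card K).Coprime n) (hQR : Q ≤ R) (hQ : IsPGroup q Q)
    (hmax : ∀ N : Subgroup G, N.Normal → N ≤ R → (Nat.card N).Coprime n → N ≤ K)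
    (hsplit : ∀ p : ℕ, p.Prime → p ∣ n → ∃ (r : ℕ) (Zp Zr : Subgroup G),
      r.Prime ∧ r ∣ n ∧ r ≠ p ∧ IsPGroup p Zp ∧ IsPGroup r Zr ∧
      Zp ≤ centralizer (Zr : Set G) ∧ Zr ≤ normalizer (Q : Set G) ∧
      Q ⊓ centralizer (Zr : Set G) = ⊥ ∧
      ∀ c ∈ R, c ∈ centralizer (Zp : Set G) → ∀ y ∈ Zr, c * y * c⁻¹ * y⁻¹ ∈ Zr) :
    Q ≤ K := by
  classical
  set f := QuotientGroup.mk' K with hf
  have hfs : Function.Surjective f := QuotientGroup.mk'_surjective K
  set R' := R.map f with hR'
  haveI : R'.Normal := Normal.map inferInstance f hfs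
  haveI hR's : Group.IsSolvable R' := by
    haveI := hR
    exact Group.isSolvable_of_surjective (f.subgroupMap_surjective R)
  have hcomap : ∀ W : Subgroup (G ⧸ K), W ≤ R' → W.comap f ≤ R := by
    intro W hW
    refine (comap_mono hW).trans ?_
    rw [hR', comap_map_eq, hf, QuotientGroup.ker_mk', sup_eq_left.mpr hKR]
  have hkey : ∀ s : ℕ, s.Prime →
      (¬ s ∣ n → pCoreOf s R' = ⊥) ∧ Q.map f ≤ centralizer (pCoreOf s R' : Set (G ⧸ K)) := by
    intro s hs
    haveI := Fact.mk hs
    set W := pCoreOf s R' with hW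
    haveI hWn : W.Normal := by
      rw [hW]
      haveI := PSolvable.pCore_characteristic (p := s) (G := R')
      exact ConjAct.normal_of_characteristic_of_normal
    have hWp : IsPGroup s W := isPGroup_pCoreOf R' s
    have hLR : W.comap f ≤ R := hcomap W (pCoreOf_le R' s)
    have hKL : K ≤ W.comap f := QuotientGroup.le_comap_mk' K W
    haveI : (W.comap f).Normal := hWn.comap f
    by_cases hsn : s ∣ n
    · refine ⟨fun h => absurd hsn h, ?_⟩
      obtain ⟨r, Zp, Zr, hr, hrn, hrs, hZp, hZr, hcomm, hrQ, hQZ, hfix⟩ := hsplit s hs hsn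
      haveI := Fact.mk hr
      have h1 : ⁅W.comap f, Zr⁆ ≤ K := by
        refine commutator_mem_of_fixed (p := s) (r := r) hrs hKL ?_ hZp hZr
          (fun h => hs.not_dvd_one (Nat.eq_one_of_dvd_coprimes hK h hsn ▸ dvd_rfl))
          (fun h => hr.not_dvd_one (Nat.eq_one_of_dvd_coprimes hK h hrn ▸ dvd_rfl)) hcomm
          (fun a _ => by rw [normalizer_eq_top]; exact mem_top a)
          (fun a _ => by rw [normalizer_eq_top]; exact mem_top a)
          (fun c hc => hfix c (hLR hc))
        rw [map_comap_eq_self_of_surjective hfs]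
        exact hWp
      set C := (centralizer (W : Set (G ⧸ K))).comap f with hC
      haveI hCn : C.Normal := by rw [hC]; infer_instance
      have hZC : Zr ≤ C := fun y hy => mem_centralizer_iff.mpr fun w hw => by
        obtain ⟨x, rfl⟩ := hfs w
        have h2 : f ⁅x, y⁆ = 1 := (QuotientGroup.eq_one_iff _).mpr (h1 (commutator_mem_commutator hw hy))
        rw [map_commutatorElement, commutatorElement_eq_one_iff_mul_comm] at h2
        exact h2
      have hQC : ⁅Q, Zr⁆ ≤ C :=
        (commutator_mono le_rfl hZC).trans (commutator_le_right Q C)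
      have hcop : (Nat.card Zr).Coprime (Nat.card (⁅Q, Zr⁆ : Subgroup G)) := by
        refine Coprime.coprime_of_le_right (Coprime.commutator_le_of_le_normalizer hrQ) ?_
        obtain ⟨a, ha⟩ := hZr.exists_card_eq
        obtain ⟨b, hb⟩ := hQ.exists_card_eq
        rw [ha, hb]
        exact Nat.Coprime.pow _ _ ((Nat.coprime_primes hr hq.out).mpr fun e => hqn (e ▸ hrn))
      have hsup := Coprime.commutator_sup_centralizer hrQ hcop
        (Or.inl (by haveI := hZr.isNilpotent; infer_instance))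
      rw [hQZ, sup_bot_eq] at hsup
      rw [hsup] at hQC
      exact map_le_iff_le_comap.mpr hQC
    · have hW1 : W = ⊥ := by
        have hle : W.comap f ≤ K := by
          refine hmax _ inferInstance hLR ?_
          rw [PSolvable.card_comap_mk']
          obtain ⟨b, hb⟩ := hWp.exists_card_eq
          rw [hb]
          exact hK.mul_left ((hs.coprime_iff_not_dvd.mpr hsn).pow_left b)
        rw [← map_comap_eq_self_of_surjective hfs W, eq_bot_iff]
        rintro _ ⟨x, hx, rfl⟩
        exact mem_bot.mpr ((QuotientGroup.eq_one_iff x).mpr (hle hx))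
      refine ⟨fun _ => hW1, fun x _ => mem_centralizer_iff.mpr fun w hw => ?_⟩
      rw [hW1] at hw
      rw [mem_bot.mp hw, one_mul, mul_one]
  intro a ha
  refine (QuotientGroup.eq_one_iff a).mp ?_
  show f a = 1
  have haR : f a ∈ R' := mem_map_of_mem f (hQR ha)
  have hmem : (⟨f a, haR⟩ : R') ∈ centralizer (Cfsg.fittingSubgroup R' : Set R') := by
    refine mem_centralizer_iff.mpr fun x hx => Subtype.ext ?_
    exact (mem_centralizer_iff.mp (mem_centralizer_fittingOf R' fun s hs w hw =>
      (mem_centralizer_iff.mp ((hkey s hs).2 (mem_map_of_mem f ha)) w hw).symm)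
      (x : G ⧸ K) ⟨x, hx, rfl⟩)
  have hF : (⟨f a, haR⟩ : R') ∈ Cfsg.fittingSubgroup R' :=
    Fitting.centralizer_fittingSubgroup_le hmem
  obtain ⟨k, hk⟩ := IsPGroup.iff_orderOf.mp hQ ⟨a, ha⟩
  rw [Subgroup.orderOf_mk] at hk
  have hqF : ¬ q ∣ Nat.card (fittingOf R') := fun hd =>
    pCoreOf_ne_bot R' hd ((hkey q hq.out).1 hqn)
  exact orderOf_eq_one_iff.mp (Nat.eq_one_of_dvd_coprimes
    ((hq.out.coprime_iff_not_dvd.mpr hqF).pow_left k) (hk ▸ orderOf_map_dvd f a)
    (orderOf_dvd_natCard _ (⟨_, hF, rfl⟩ : f a ∈ fittingOf R')))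

section Setting

variable (H : Subgroup G)

/-- A subgroup of `H` of order prime to `|F(H)|` normalised by `M` centralises `F(H)`. -/
theorem le_centralizer_fittingOf {M Y : Subgroup G} (hM : M ≤ fittingOf H)
    (hCM : fittingOf H ⊓ centralizer (M : Set G) ≤ M) (hY : Y ≤ H)
    (hMY : M ≤ normalizer (Y : Set G)) (hcop : (Nat.card Y).Coprime (Nat.card (fittingOf H))) :
    Y ≤ centralizer (fittingOf H : Set G) := by
  set F := fittingOf H with hF
  have hFH : F ≤ H := fittingOf_le H
  have hHF : H ≤ normalizer (F : Set G) := le_normalizer.trans (normalizer_le_normalizer_fittingOf H)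
  have hFn : Group.IsNilpotent F := isNilpotent_fittingOf H
  have hYF : Y ⊓ F = ⊥ := eq_bot_iff.mpr fun x hx => mem_bot.mpr (orderOf_eq_one_iff.mp
    (Nat.eq_one_of_dvd_coprimes hcop (orderOf_dvd_natCard _ hx.1) (orderOf_dvd_natCard _ hx.2)))
  have hYM : ∀ a ∈ Y, ∀ m ∈ M, Commute a m := fun a ha m hm =>
    commute_of_mem_inter hYF ha (hM hm) (hMY hm) (hHF (hY ha))
  suffices hs : ∀ s : ℕ, s.Prime → Y ≤ centralizer (pCoreOf s H : Set G) from
    fun a ha => mem_centralizer_fittingOf H fun s hs' x hx =>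
      (mem_centralizer_iff.mp (hs s hs' ha) x hx).symm
  intro s hs
  haveI := Fact.mk hs
  set U := pCoreOf s H with hU
  by_cases hsF : s ∣ Nat.card F
  · refine Coprime.thompson_PxQ (P := M ⊓ U) ((isPGroup_pCoreOf H s).to_le inf_le_right) ?_
      (isPGroup_pCoreOf H s) ?_ (inf_le_right.trans le_normalizer)
      (hY.trans (le_normalizer.trans (normalizer_le_normalizer_pCoreOf H s))) ?_
    · exact hcop.coprime_dvd_right hsF
    · exact fun m hm => mem_centralizer_iff.mpr fun a ha => hYM a ha m hm.1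
    intro x hx
    obtain ⟨hxU, hxc⟩ := mem_inf.mp hx
    have hxF : x ∈ F := pCoreOf_le_fittingOf H s hxU
    obtain ⟨e, he⟩ := IsPGroup.iff_orderOf.mp (isPGroup_pCoreOf H s) ⟨x, hxU⟩
    rw [Subgroup.orderOf_mk] at he
    obtain ⟨P⟩ := (inferInstance : Nonempty (Sylow s M))
    have htop : (centralizer ({x} : Set G)).subgroupOf M = ⊤ := by
      refine CNTheorem.eq_top_of_sylow_of_coprime P ?_ fun z hz => ?_
      · intro m hm
        obtain ⟨k, hk⟩ := IsPGroup.iff_orderOf.mp P.2 ⟨m, hm⟩
        rw [Subgroup.orderOf_mk, ← Subgroup.orderOf_coe] at hk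
        exact CNTheorem.mem_centralizer_iff_commute.mpr
          (mem_centralizer_iff.mp hxc (m : G) ⟨m.2, mem_pCoreOf_of_pow H (hM m.2) hk⟩)
      · refine CNTheorem.mem_centralizer_iff_commute.mpr
          (CNTheorem.commute_of_mem_nilpotent hFn (hM z.2) hxF ?_)
        rw [Subgroup.subtype_apply, Subgroup.orderOf_coe, he]
        exact hz.pow_right e
    have hxM : x ∈ M := hCM ⟨hxF, mem_centralizer_iff.mpr fun m hm =>
      CNTheorem.mem_centralizer_iff_commute.mp (subgroupOf_eq_top.mp htop hm)⟩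
    exact mem_centralizer_iff.mpr fun a ha => hYM a ha x hxM
  · intro a _
    refine mem_centralizer_iff.mpr fun x hx => ?_
    obtain ⟨e, he⟩ := IsPGroup.iff_orderOf.mp (isPGroup_pCoreOf H s) ⟨x, hx⟩
    rw [Subgroup.orderOf_mk] at he
    have h1 : orderOf x = 1 := Nat.eq_one_of_dvd_coprimes
      ((hs.coprime_iff_not_dvd.mpr hsF).pow_left e) he.dvd
      (orderOf_dvd_natCard _ (pCoreOf_le_fittingOf H s hx))
    rw [orderOf_eq_one_iff.mp h1, one_mul, mul_one]

/-- A solvable subgroup normalised by `X = C_H(F)` meets it inside `F`. -/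
theorem inf_le_fittingOf {R : Subgroup G} (hR : Group.IsSolvable R)
    (hXR : H ⊓ centralizer (fittingOf H : Set G) ≤ normalizer (R : Set G)) :
    H ⊓ centralizer (fittingOf H : Set G) ⊓ R ≤ fittingOf H := by
  set X := H ⊓ centralizer (fittingOf H : Set G) with hX
  have hXF : fittingOf X ≤ fittingOf H := by
    have hXn : (X.subgroupOf H).Normal :=
      (normal_subgroupOf_iff_le_normalizer inf_le_left).mpr
        (Coprime.le_normalizer_inf_centralizer le_normalizer
          (le_normalizer.trans (normalizer_le_normalizer_fittingOf H)))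
    haveI := hXn
    have hn : ((fittingOf X).subgroupOf H).Normal := by
      refine (normal_subgroupOf_iff_le_normalizer ((fittingOf_le X).trans inf_le_left)).mpr ?_
      exact ((normal_subgroupOf_iff_le_normalizer inf_le_left).mp hXn).trans
        (normalizer_le_normalizer_fittingOf X)
    have hnil : Group.IsNilpotent ((fittingOf X).subgroupOf H) := by
      haveI := isNilpotent_fittingOf X
      exact (Group.isNilpotent_congr
        (subgroupOfEquivOfLe ((fittingOf_le X).trans inf_le_left))).mpr inferInstance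
    have h1 := map_mono (f := H.subtype) (Fitting.le_fittingSubgroup (hn := hn) hnil)
    rwa [map_subgroupOf_eq_of_le ((fittingOf_le X).trans inf_le_left)] at h1
  haveI : (R.subgroupOf X).Normal := normal_subgroupOf_of_le_normalizer hXR
  have hRs : Group.IsSolvable (R.subgroupOf X) := by
    haveI := hR
    refine Group.isSolvable_of_isSolvable_injective
      (f := (X.subtype.comp (R.subgroupOf X).subtype).codRestrict R (fun x => x.2)) ?_
    intro a b hab
    exact Subtype.ext (Subtype.ext (congrArg Subtype.val hab :))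
  have h2 : R.subgroupOf X ≤ Cfsg.fittingSubgroup X := by
    refine Fitting.le_fittingSubgroup_of_le_centralizer hRs fun x _ => mem_centralizer_iff.mpr
      fun w hw => Subtype.ext ?_
    exact mem_centralizer_iff.mp x.2.2 _ (hXF ⟨w, hw, rfl⟩)
  intro x hx
  exact hXF ⟨⟨x, hx.1⟩, h2 hx.2, rfl⟩

theorem eq_bot_of_invariant {M R Y : Subgroup G} (hM : M ≤ fittingOf H)
    (hCM : fittingOf H ⊓ centralizer (M : Set G) ≤ M) (hR : Group.IsSolvable R)
    (hXR : H ⊓ centralizer (fittingOf H : Set G) ≤ normalizer (R : Set G))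
    (hY : Y ≤ H) (hYR : Y ≤ R) (hMY : M ≤ normalizer (Y : Set G))
    (hcop : (Nat.card Y).Coprime (Nat.card (fittingOf H))) : Y = ⊥ := by
  refine eq_bot_iff.mpr fun y hy => mem_bot.mpr (orderOf_eq_one_iff.mp
    (Nat.eq_one_of_dvd_coprimes hcop (orderOf_dvd_natCard _ hy) (orderOf_dvd_natCard _ ?_)))
  exact inf_le_fittingOf H hR hXR
    ⟨⟨hY hy, le_centralizer_fittingOf H hM hCM hY hMY hcop hy⟩, hYR hy⟩

variable {H}

/-- `C(Z_p) ≤ H` when `H` is a maximal local subgroup. -/
theorem centralizer_zc_le (hmax : ∀ L : Subgroup G, Cfsg.IsLocalSubgroup L → H ≤ L → L = H)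
    {p : ℕ} [Fact p.Prime] (hd : p ∣ Nat.card (fittingOf H)) :
    centralizer (zc H p : Set G) ≤ H := by
  have h := hmax _ ⟨p, zc H p, Fact.out, isPGroup_zc H p, zc_ne_bot H hd, rfl⟩ (le_normalizer_zc H p)
  exact (centralizer_le_normalizer _).trans h.le

/-- Bender's invariant subgroup lemma. -/
theorem le_piCoreOf_of_invariant (hF2 : 2 ≤ (Nat.card (fittingOf H)).primeFactors.card)
    (hC : ∀ p : ℕ, p.Prime → p ∣ Nat.card (fittingOf H) → centralizer (zc H p : Set G) ≤ H)
    {M R Q : Subgroup G} (hM : M ≤ fittingOf H)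
    (hCM : fittingOf H ⊓ centralizer (M : Set G) ≤ M) (hR : Group.IsSolvable R)
    (hMR : M ≤ normalizer (R : Set G))
    (hXR : H ⊓ centralizer (fittingOf H : Set G) ≤ normalizer (R : Set G))
    {q : ℕ} [hq : Fact q.Prime] (hqn : ¬ q ∣ Nat.card (fittingOf H)) (hQR : Q ≤ R)
    (hQ : IsPGroup q Q) (hMQ : M ≤ normalizer (Q : Set G)) :
    Q ≤ piCoreOf (primesNotDvd (Nat.card (fittingOf H))) R := by
  classical
  set n := Nat.card (fittingOf H) with hn
  set K := piCoreOf (primesNotDvd n) R with hK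
  set N := normalizer (R : Set G) with hN
  have hRN : R ≤ N := le_normalizer
  have hKR : K ≤ R := OddLocal.piCoreOf_le _ R
  have hKc : (Nat.card K).Coprime n :=
    coprime_of_primesNotDvd fun p hp hd => OddLocal.piCoreOf_isPi R hp hd
  haveI : (R.subgroupOf N).Normal := normal_in_normalizer
  haveI : (Cfsg.piCore (primesNotDvd n) R).Characteristic := by
    refine characteristic_iff_map_le.mpr fun e => OddLocal.le_piCore
      (Normal.map inferInstance _ e.surjective) fun p hp hd => ?_
    rw [card_map_of_injective (f := e.toMonoidHom) e.injective] at hd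
    exact OddLocal.piCore_isPi _ _ hp hd
  haveI : (K.subgroupOf N).Normal :=
    normal_subgroupOf_of_le_normalizer (Coprime.normalizer_le_normalizer_map_of_characteristic _)
  have hcard : ∀ A : Subgroup G, A ≤ N → Nat.card (A.subgroupOf N) = Nat.card A := fun A hA =>
    Nat.card_congr (subgroupOfEquivOfLe hA).toEquiv
  have hZM : ∀ s : ℕ, s.Prime → zc H s ≤ M := fun s hs => by
    haveI := Fact.mk hs
    exact (le_inf (zc_le_fittingOf H s)
      ((zc_le_centralizer H s).trans (centralizer_le (SetLike.coe_subset_coe.mpr hM)))).trans hCM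
  have h := le_core_of_fixed (G := N) (n := n) (q := q) hqn (R.subgroupOf N) (K.subgroupOf N)
    (Q.subgroupOf N) (by
      haveI := hR
      exact Group.isSolvable_of_isSolvable_injective (f := (subgroupOfEquivOfLe hRN).toMonoidHom)
        (subgroupOfEquivOfLe hRN).injective)
    (fun x hx => hKR hx) (by rw [hcard K (hKR.trans hRN)]; exact hKc) (fun x hx => hQR hx)
    hQ.comap_subtype ?_ ?_
  · intro a ha
    exact h (show (⟨a, hRN (hQR ha)⟩ : N) ∈ Q.subgroupOf N from ha)
  · intro A hA hAR hAc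
    have hA' : A.map N.subtype ≤ R := by
      rintro _ ⟨a, ha, rfl⟩
      exact hAR ha
    have hle : A.map N.subtype ≤ K := by
      refine OddLocal.le_piCoreOf hA' ?_ fun p hp hd => ⟨hp, fun hdn => ?_⟩
      · exact hRN.trans ((normal_subgroupOf_iff_le_normalizer (map_subtype_le A)).mp
          (by rw [subgroupOf, comap_map_eq_self_of_injective N.subtype_injective]; exact hA))
      · rw [card_map_of_injective N.subtype_injective] at hd
        exact hp.not_dvd_one (Nat.eq_one_of_dvd_coprimes hAc hd hdn ▸ dvd_rfl)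
    exact fun x hx => hle (mem_map_of_mem N.subtype hx)
  · intro p hp hpn
    haveI := Fact.mk hp
    obtain ⟨r, hr, hrp⟩ := Finset.exists_mem_ne hF2 p
    obtain ⟨hr, hrn, -⟩ := Nat.mem_primeFactors.mp hr
    haveI := Fact.mk hr
    have hZpN : zc H p ≤ N := (hZM p hp).trans hMR
    have hZrN : zc H r ≤ N := (hZM r hr).trans hMR
    refine ⟨r, (zc H p).subgroupOf N, (zc H r).subgroupOf N, hr, hrn, hrp,
      (isPGroup_zc H p).comap_subtype, (isPGroup_zc H r).comap_subtype, ?_, ?_, ?_, ?_⟩
    · exact fun x hx => mem_centralizer_iff.mpr fun y hy => Subtype.ext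
        (mem_centralizer_iff.mp ((zc_le_centralizer H p) hx) (y : G) (zc_le_fittingOf H r hy))
    · intro x hx
      refine mem_normalizer_iff.mpr fun y => ?_
      exact mem_normalizer_iff.mp (hMQ (hZM r hr hx)) (y : G)
    · have hY : Q ⊓ centralizer (zc H r : Set G) = ⊥ := by
        refine eq_bot_of_invariant H hM hCM hR hXR (inf_le_right.trans (hC r hr hrn))
          (inf_le_left.trans hQR) ?_ ?_
        · refine Coprime.le_normalizer_inf_centralizer hMQ ?_
          exact (hM.trans (fittingOf_le H)).trans (le_normalizer_zc H r)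
        · obtain ⟨b, hb⟩ := hQ.exists_card_eq
          refine Nat.Coprime.coprime_dvd_left (card_dvd_of_le inf_le_left) ?_
          rw [hb]
          exact (hq.out.coprime_iff_not_dvd.mpr hqn).pow_left b
      rw [eq_bot_iff]
      intro x hx
      have h1 : (x : G) ∈ Q ⊓ centralizer (zc H r : Set G) := ⟨hx.1, mem_centralizer_iff.mpr
        fun y hy => congrArg Subtype.val
          (mem_centralizer_iff.mp hx.2 (⟨y, hZrN hy⟩ : N) hy)⟩
      rw [hY, mem_bot] at h1
      exact mem_bot.mpr (Subtype.ext h1)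
    · intro c _ hc y hy
      have hcH : (c : G) ∈ H := hC p hp hpn (mem_centralizer_iff.mpr fun z hz =>
        congrArg Subtype.val (mem_centralizer_iff.mp hc (⟨z, hZpN hz⟩ : N) hz))
      exact (zc H r).mul_mem
        ((mem_normalizer_iff.mp (le_normalizer_zc H r hcH) (y : G)).mp hy) ((zc H r).inv_mem hy)

/-- The maximal invariant `q`-subgroup is unique and is a Sylow subgroup of the core. -/
theorem existsUnique_maxInv (hF2 : 2 ≤ (Nat.card (fittingOf H)).primeFactors.card)
    (hC : ∀ p : ℕ, p.Prime → p ∣ Nat.card (fittingOf H) → centralizer (zc H p : Set G) ≤ H)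
    {M R : Subgroup G} (hM : M ≤ fittingOf H)
    (hCM : fittingOf H ⊓ centralizer (M : Set G) ≤ M) (hR : Group.IsSolvable R)
    (hMR : M ≤ normalizer (R : Set G))
    (hXR : H ⊓ centralizer (fittingOf H : Set G) ≤ normalizer (R : Set G))
    (q : ℕ) [hq : Fact q.Prime] (hqn : ¬ q ∣ Nat.card (fittingOf H)) :
    ∃! Q : Subgroup G, Q ∈ Cfsg.maxInvSubgroups R M {q} ∧
      (∀ Q' : Subgroup G, Q' ∈ Cfsg.maxInvSubgroups R M {q} →
        Q' ≤ piCoreOf (primesNotDvd (Nat.card (fittingOf H))) R ∧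
        ¬ q ∣ Q'.relIndex (piCoreOf (primesNotDvd (Nat.card (fittingOf H))) R)) := by
  classical
  set n := Nat.card (fittingOf H) with hn
  set K := piCoreOf (primesNotDvd n) R with hK
  have hKR : K ≤ R := OddLocal.piCoreOf_le _ R
  have hKc : (Nat.card K).Coprime n :=
    coprime_of_primesNotDvd fun p hp hd => OddLocal.piCoreOf_isPi R hp hd
  haveI : (Cfsg.piCore (primesNotDvd n) R).Characteristic := by
    refine characteristic_iff_map_le.mpr fun e => OddLocal.le_piCore
      (Normal.map inferInstance _ e.surjective) fun p hp hd => ?_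
    rw [card_map_of_injective (f := e.toMonoidHom) e.injective] at hd
    exact OddLocal.piCore_isPi _ _ hp hd
  have hMK : M ≤ normalizer (K : Set G) :=
    hMR.trans (Coprime.normalizer_le_normalizer_map_of_characteristic _)
  have hMcop : (Nat.card M).Coprime (Nat.card K) :=
    (hKc.coprime_dvd_right (card_dvd_of_le hM)).symm
  have hMs : Group.IsSolvable M := by
    haveI := isNilpotent_fittingOf H
    exact Coprime.isSolvable_of_le hM inferInstance
  have hinv : ∀ Q ∈ Cfsg.invSubgroups R M {q}, IsPGroup q Q ∧ Q ≤ K := fun Q hQ =>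
    have hQp := OddLocal.isPGroup_of_forall_prime_eq hQ.2.1
    ⟨hQp, le_piCoreOf_of_invariant hF2 hC hM hCM hR hMR hXR hqn hQ.1 hQp hQ.2.2⟩
  -- `C_K(M) = 1`
  have hCK : K ⊓ centralizer (M : Set G) = ⊥ := by
    obtain ⟨p, hp⟩ := (Finset.card_pos.mp (lt_of_lt_of_le two_pos hF2) :
      (Nat.card (fittingOf H)).primeFactors.Nonempty)
    obtain ⟨hp, hpn, -⟩ := Nat.mem_primeFactors.mp hp
    haveI := Fact.mk hp
    have hZM : zc H p ≤ M := (le_inf (zc_le_fittingOf H p)
      ((zc_le_centralizer H p).trans (centralizer_le (SetLike.coe_subset_coe.mpr hM)))).trans hCM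
    refine eq_bot_of_invariant H hM hCM hR hXR ?_ (inf_le_left.trans hKR)
      (Coprime.le_normalizer_inf_centralizer hMK le_normalizer)
      (hKc.coprime_dvd_left (card_dvd_of_le inf_le_left))
    exact inf_le_right.trans ((centralizer_le (SetLike.coe_subset_coe.mpr hZM)).trans (hC p hp hpn))
  have hsyl : ∀ Q ∈ Cfsg.maxInvSubgroups R M {q}, ¬ q ∣ Q.relIndex K := by
    intro Q hQ
    refine Coprime.not_dvd_index_of_maximal_invariant hMK hMcop (Or.inl hMs) (hinv Q hQ.1).2
      (hinv Q hQ.1).1 hQ.1.2.2 fun W hQW hWK hW hWA => ?_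
    exact hQ.2 W ⟨hWK.trans hKR,
      fun p hp hd => OddLocal.forall_prime_eq_of_isPGroup hq.out hW p hp hd, hWA⟩ hQW
  have huniq : ∀ Q₁ ∈ Cfsg.maxInvSubgroups R M {q}, ∀ Q₂ ∈ Cfsg.maxInvSubgroups R M {q},
      Q₁ = Q₂ := by
    intro Q₁ h₁ Q₂ h₂
    obtain ⟨h1p, h1K⟩ := hinv Q₁ h₁.1
    obtain ⟨h2p, h2K⟩ := hinv Q₂ h₂.1
    set S₁ : Sylow q K := IsPGroup.toSylow (P := Q₁.subgroupOf K) h1p.comap_subtype (hsyl Q₁ h₁)
    set S₂ : Sylow q K := IsPGroup.toSylow (P := Q₂.subgroupOf K) h2p.comap_subtype (hsyl Q₂ h₂)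
    have e₁ : (S₁ : Subgroup K).map K.subtype = Q₁ := map_subgroupOf_eq_of_le h1K
    have e₂ : (S₂ : Subgroup K).map K.subtype = Q₂ := map_subgroupOf_eq_of_le h2K
    obtain ⟨c, hc, hcs⟩ := Coprime.exists_centralizer_conj_eq hMK hMcop (Or.inl hMs)
      (P := S₁) (Q := S₂) (by rw [e₁]; exact h₁.1.2.2) (by rw [e₂]; exact h₂.1.2.2)
    have hc1 : (c : G) ∈ K ⊓ centralizer (M : Set G) := ⟨c.2, hc⟩
    rw [hCK, mem_bot] at hc1
    rw [show c = 1 from Subtype.ext hc1, one_smul] at hcs
    rw [← e₁, ← e₂, hcs]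
  obtain ⟨Q, hQ, -⟩ := OddLocal.exists_maxInvSubgroups_ge
    (OddLocal.bot_mem_invSubgroups R M ({q} : Set ℕ))
  exact ⟨Q, ⟨hQ, fun Q' hQ' => ⟨(hinv Q' hQ'.1).2, hsyl Q' hQ'⟩⟩,
    fun Q' hQ' => huniq Q' hQ'.1 Q hQ⟩

end Setting

end Cfsg.Agent.Lib.Bender
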